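import Groth.Agent.H8Props.TensorBranch.Normal
import Groth.Agent.H9Hens.TensorHensFinite
import Groth.Agent.H9Hens.BranchNormal
import Groth.Agent.H9Hens.BranchSum
import Groth.Agent.S2750
import Groth.Agent.S2135

/-!
# Minimal primes of strict henselizations of tensor products
-/

set_option autoImplicit false
set_option linter.unusedSectionVars false
set_option linter.style.haveILetI false
universe u

open TensorProduct IsLocalRing

namespace Groth.Agent.H8Props.TensorBranch

variable {k A B C : Type u} [Field k] [IsAlgClosed k] [CommRing A] [CommRing B] [Algebra k A] [Algebra k B]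

theorem isSepClosed_residueField [IsLocalRing A]
    (hA : Function.Bijective ((residue A).comp (algebraMap k A))) : IsSepClosed (ResidueField A) :=
  H9Hens.isSepClosed_of_ringEquiv (RingEquiv.ofBijective _ hA)

/-- The normalization of a strictly henselian local domain is local. -/
theorem isLocalRing_integralClosure (R K : Type u) [CommRing R] [HenselianLocalRing R] [IsDomain R]
    [IsSepClosed (ResidueField R)] [Field K] [Algebra R K] [IsFractionRing R K] :
    IsLocalRing (integralClosure R K) := by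
  haveI := H9Hens.isStrictHenselization_self R
  haveI : IsLocalHom (algebraMap R R) := ⟨fun _ h => h⟩
  have h := ((Groth.Agent.S2750.result R R).2 ‹_›).2
  haveI hl : IsLocalRing (CAlg2.normRed R) := h.1.2
  haveI : IsDomain (CAlg2.red R) := h.1.1
  obtain ⟨e₃⟩ := H9Hens.nonempty_integralClosure_algEquiv_normRed (A := R)
  haveI : IsFractionRing R (FractionRing (CAlg2.red R)) := isFractionRing_of_tower R (CAlg2.red R) _
    (by rw [RingHom.injective_iff_ker_eq_bot, Ideal.Quotient.algebraMap_eq, Ideal.mk_ker,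
      nilradical_eq_zero]; rfl)
    fun z => by
      obtain ⟨r, rfl⟩ := Ideal.Quotient.mk_surjective z
      exact ⟨1, one_ne_zero, r, by simp⟩
  let σ : FractionRing (CAlg2.red R) ≃ₐ[R] K :=
    IsLocalization.algEquiv (nonZeroDivisors R) _ _
  exact ((e₃.symm.trans σ.mapIntegralClosure).toRingEquiv).isLocalRing

/-- The local ring at the rational point of a tensor product of strictly henselian local domains is
geometrically unibranch. -/
theorem isGeomUnibranch_of_henselian [HenselianLocalRing A] [HenselianLocalRing B] [IsDomain A] [IsDomain B]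
    (hrA : Function.Bijective ((residue A).comp (algebraMap k A)))
    (hrB : Function.Bijective ((residue B).comp (algebraMap k B)))
    (𝔪 : Ideal (A ⊗[k] B)) [𝔪.IsPrime]
    (h𝔪A : ∀ a ∈ maximalIdeal A, a ⊗ₜ[k] (1 : B) ∈ 𝔪) (h𝔪B : ∀ b ∈ maximalIdeal B, (1 : A) ⊗ₜ[k] b ∈ 𝔪)
    (D : Type u) [CommRing D] [IsLocalRing D] [Algebra (A ⊗[k] B) D] [IsLocalization.AtPrime D 𝔪] :
    CAlg2.IsGeomUnibranch D := by
  haveI := isSepClosed_residueField hrA
  haveI := isSepClosed_residueField hrB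
  haveI := isLocalRing_integralClosure A (FractionRing A)
  haveI := isLocalRing_integralClosure B (FractionRing B)
  haveI : IsIntegrallyClosed (integralClosure A (FractionRing A)) :=
    integralClosure.isIntegrallyClosedOfFiniteExtension (FractionRing A)
  haveI : IsIntegrallyClosed (integralClosure B (FractionRing B)) :=
    integralClosure.isIntegrallyClosedOfFiniteExtension (FractionRing B)
  refine isGeomUnibranch_tensor (A' := integralClosure A (FractionRing A))
    (B' := integralClosure B (FractionRing B))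
    ((Algebra.ofId A (integralClosure A (FractionRing A))).restrictScalars k)
    ((Algebra.ofId B (integralClosure B (FractionRing B))).restrictScalars k) ?_ ?_ ?_ ?_ ?_ ?_
    hrA hrB 𝔪 h𝔪A h𝔪B D
  · exact fun x y h => IsFractionRing.injective A (FractionRing A) (congrArg Subtype.val h)
  · exact fun x y h => IsFractionRing.injective B (FractionRing B) (congrArg Subtype.val h)
  · exact fun x => Algebra.IsIntegral.isIntegral (R := A) x
  · exact fun x => Algebra.IsIntegral.isIntegral (R := B) x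
  · intro x
    obtain ⟨a, d, hd, hx⟩ := IsFractionRing.div_surjective (A := A) (x : FractionRing A)
    refine ⟨d, nonZeroDivisors.ne_zero hd, a, Subtype.ext ?_⟩
    show algebraMap A (FractionRing A) a = algebraMap A (FractionRing A) d * (x : FractionRing A)
    rw [← hx, mul_div_cancel₀ _ (IsFractionRing.to_map_ne_zero_of_mem_nonZeroDivisors hd)]
  · intro x
    obtain ⟨a, d, hd, hx⟩ := IsFractionRing.div_surjective (A := B) (x : FractionRing B)
    refine ⟨d, nonZeroDivisors.ne_zero hd, a, Subtype.ext ?_⟩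
    show algebraMap B (FractionRing B) a = algebraMap B (FractionRing B) d * (x : FractionRing B)
    rw [← hx, mul_div_cancel₀ _ (IsFractionRing.to_map_ne_zero_of_mem_nonZeroDivisors hd)]

theorem residue_bijective_quotient [IsLocalRing A] (p : Ideal A) [IsLocalRing (A ⧸ p)]
    (hA : Function.Bijective ((residue A).comp (algebraMap k A))) :
    Function.Bijective ((residue (A ⧸ p)).comp (algebraMap k (A ⧸ p))) := by
  refine ⟨RingHom.injective _, fun y => ?_⟩
  obtain ⟨z, rfl⟩ := residue_surjective y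
  obtain ⟨a, rfl⟩ := Ideal.Quotient.mk_surjective z
  obtain ⟨c, hc⟩ := hA.2 (residue A a)
  refine ⟨c, ?_⟩
  rw [RingHom.comp_apply, ← Ideal.Quotient.mk_algebraMap, ← sub_eq_zero, ← map_sub, ← map_sub,
    residue_eq_zero_iff]
  rw [RingHom.comp_apply, ← sub_eq_zero, ← map_sub, residue_eq_zero_iff] at hc
  haveI : IsLocalHom (Ideal.Quotient.mk p) :=
    IsLocalHom.of_surjective _ Ideal.Quotient.mk_surjective
  exact map_nonunit (Ideal.Quotient.mk p) _ hc

/-- The ideal of a pair of primes. -/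
noncomputable def pairIdeal (p : Ideal A) (q : Ideal B) : Ideal (A ⊗[k] B) :=
  p.map (Algebra.TensorProduct.includeLeft : A →ₐ[k] A ⊗[k] B) ⊔
    q.map (Algebra.TensorProduct.includeRight : B →ₐ[k] A ⊗[k] B)

/-- The map to the tensor product of the quotients. -/
noncomputable abbrev pairMap (p : Ideal A) (q : Ideal B) : A ⊗[k] B →ₐ[k] (A ⧸ p) ⊗[k] (B ⧸ q) :=
  Algebra.TensorProduct.map (Ideal.Quotient.mkₐ k p) (Ideal.Quotient.mkₐ k q)

theorem ker_pairMap (p : Ideal A) (q : Ideal B) :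
    RingHom.ker (pairMap (k := k) p q) = pairIdeal p q := by
  rw [pairMap, Algebra.TensorProduct.map_ker _ _ (Ideal.Quotient.mkₐ_surjective k p)
    (Ideal.Quotient.mkₐ_surjective k q)]
  congr 1 <;> exact congrArg _ Ideal.mk_ker

theorem pairMap_surjective (p : Ideal A) (q : Ideal B) :
    Function.Surjective (pairMap (k := k) p q) := fun z => by
  induction z using TensorProduct.induction_on with
  | zero => exact ⟨0, map_zero _⟩
  | tmul x y =>
    obtain ⟨a, rfl⟩ := Ideal.Quotient.mk_surjective x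
    obtain ⟨b, rfl⟩ := Ideal.Quotient.mk_surjective y
    exact ⟨a ⊗ₜ b, rfl⟩
  | add x y hx hy =>
    obtain ⟨a, rfl⟩ := hx
    obtain ⟨b, rfl⟩ := hy
    exact ⟨a + b, map_add _ _ _⟩

variable {p : Ideal A} {q : Ideal B} [p.IsPrime] [q.IsPrime]

theorem isPrime_pairIdeal : (pairIdeal (k := k) p q).IsPrime := by
  haveI := H19Grp.isDomain_tensorProduct (k := k) (A ⧸ p) (B ⧸ q)
  rw [← ker_pairMap]
  exact RingHom.ker_isPrime _

theorem comap_pairIdeal_left :
    (pairIdeal (k := k) p q).comap (Algebra.TensorProduct.includeLeft : A →ₐ[k] A ⊗[k] B).toRingHom = p := by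
  ext a
  rw [Ideal.mem_comap, ← ker_pairMap, RingHom.mem_ker]
  show Ideal.Quotient.mk p a ⊗ₜ[k] (Ideal.Quotient.mk q (1 : B)) = 0 ↔ _
  rw [map_one, ← Ideal.Quotient.eq_zero_iff_mem]
  exact map_eq_zero_iff (Algebra.TensorProduct.includeLeft : A ⧸ p →ₐ[k] (A ⧸ p) ⊗[k] (B ⧸ q))
    (Algebra.TensorProduct.includeLeft_injective (S := k) (FaithfulSMul.algebraMap_injective k (B ⧸ q)))

theorem comap_pairIdeal_right :
    (pairIdeal (k := k) p q).comap (Algebra.TensorProduct.includeRight : B →ₐ[k] A ⊗[k] B).toRingHom = q := by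
  ext b
  rw [Ideal.mem_comap, ← ker_pairMap, RingHom.mem_ker]
  show Ideal.Quotient.mk p (1 : A) ⊗ₜ[k] (Ideal.Quotient.mk q b) = 0 ↔ _
  rw [map_one, ← Ideal.Quotient.eq_zero_iff_mem]
  exact map_eq_zero_iff (Algebra.TensorProduct.includeRight : B ⧸ q →ₐ[k] (A ⧸ p) ⊗[k] (B ⧸ q))
    (Algebra.TensorProduct.includeRight_injective (FaithfulSMul.algebraMap_injective k (A ⧸ p)))

variable [HenselianLocalRing A] [HenselianLocalRing B]
  {𝔪 : Ideal (A ⊗[k] B)} [𝔪.IsPrime]

theorem pairIdeal_le (h𝔪A : ∀ a ∈ maximalIdeal A, a ⊗ₜ[k] (1 : B) ∈ 𝔪)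
    (h𝔪B : ∀ b ∈ maximalIdeal B, (1 : A) ⊗ₜ[k] b ∈ 𝔪) : pairIdeal (k := k) p q ≤ 𝔪 := by
  refine sup_le (Ideal.map_le_iff_le_comap.2 fun a ha => ?_) (Ideal.map_le_iff_le_comap.2 fun b hb => ?_)
  · exact h𝔪A a (le_maximalIdeal (Ideal.IsPrime.ne_top ‹_›) ha)
  · exact h𝔪B b (le_maximalIdeal (Ideal.IsPrime.ne_top ‹_›) hb)

/-- Over a pair of primes there is exactly one minimal prime of the strict henselization. -/
theorem hasUniqueMinimalPrime_quotient
    (hA : Function.Bijective ((residue A).comp (algebraMap k A)))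
    (hB : Function.Bijective ((residue B).comp (algebraMap k B)))
    (h𝔪A : ∀ a ∈ maximalIdeal A, a ⊗ₜ[k] (1 : B) ∈ 𝔪) (h𝔪B : ∀ b ∈ maximalIdeal B, (1 : A) ⊗ₜ[k] b ∈ 𝔪)
    (L : Type u) [CommRing L] [IsLocalRing L] [Algebra (A ⊗[k] B) L] [IsLocalization.AtPrime L 𝔪]
    [CommRing C] [IsLocalRing C] [Algebra L C] [IsLocalHom (algebraMap L C)]
    [Hensel.IsStrictHenselization L C] :
    CAlgX.HasUniqueMinimalPrime
      (C ⧸ ((pairIdeal (k := k) p q).map (algebraMap (A ⊗[k] B) L)).map (algebraMap L C)) := by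
  haveI : IsLocalRing (A ⧸ p) := H9Hens.isLocalRing_quotient (Ideal.IsPrime.ne_top ‹_›)
  haveI : IsLocalRing (B ⧸ q) := H9Hens.isLocalRing_quotient (Ideal.IsPrime.ne_top ‹_›)
  haveI : HenselianLocalRing (A ⧸ p) := H9Hens.henselianLocalRing_quotient p
  haveI : HenselianLocalRing (B ⧸ q) := H9Hens.henselianLocalRing_quotient q
  let ψ := (pairMap (k := k) p q).toRingHom
  have hψ : Function.Surjective ψ := pairMap_surjective p q
  have hker : RingHom.ker ψ = pairIdeal p q := ker_pairMap p q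
  have hIm : pairIdeal (k := k) p q ≤ 𝔪 := pairIdeal_le h𝔪A h𝔪B
  let I' := (pairIdeal (k := k) p q).map (algebraMap (A ⊗[k] B) L)
  have hI' : I' ≠ ⊤ := ne_top_of_le_ne_top (maximalIdeal.isMaximal L).ne_top
    ((Ideal.map_mono hIm).trans (IsLocalization.AtPrime.map_eq_maximalIdeal 𝔪 L).le)
  haveI : IsLocalRing (L ⧸ I') := H9Hens.isLocalRing_quotient hI'
  haveI : IsLocalRing (C ⧸ I'.map (algebraMap L C)) := H9Hens.isLocalRing_quotient
    (ne_top_of_le_ne_top (maximalIdeal.isMaximal C).ne_top (H9Hens.map_le_maximalIdeal I' hI'))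
  haveI := H9Hens.isLocalHom_quotient (S := C) I'
  haveI := H9Hens.isStrictHenselization_quotient (S := C) I'
  refine (Groth.Agent.S2135.result (A := L ⧸ I') (Ash := C ⧸ I'.map (algebraMap L C))).1 ?_
  let 𝔪₀ := 𝔪.map ψ
  have hc : 𝔪₀.comap ψ = 𝔪 := by
    rw [Ideal.comap_map_of_surjective' ψ hψ, hker, sup_eq_left]
    exact hIm
  haveI : 𝔪₀.IsPrime := Ideal.map_isPrime_of_surjective hψ (hker ▸ hIm)
  let g₀ : { g : A ⊗[k] B →+* L ⧸ I' // RingHom.ker ψ ≤ RingHom.ker g } :=
    ⟨(Ideal.Quotient.mk I').comp (algebraMap (A ⊗[k] B) L), fun x hx => by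
      rw [RingHom.mem_ker, RingHom.comp_apply, Ideal.Quotient.eq_zero_iff_mem]
      exact Ideal.mem_map_of_mem _ (hker ▸ hx)⟩
  let g : (A ⧸ p) ⊗[k] (B ⧸ q) →+* L ⧸ I' := ψ.liftOfSurjective hψ g₀
  letI : Algebra ((A ⧸ p) ⊗[k] (B ⧸ q)) (L ⧸ I') := g.toAlgebra
  haveI : IsLocalization.AtPrime (L ⧸ I') 𝔪₀ := by
    show IsLocalization 𝔪₀.primeCompl (L ⧸ I')
    have hM : 𝔪₀.primeCompl = 𝔪.primeCompl.map ψ := by
      ext y
      obtain ⟨x, rfl⟩ := hψ y
      refine ⟨fun hy => ⟨x, fun hx => hy (Ideal.mem_map_of_mem ψ hx), rfl⟩, ?_⟩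
      rintro ⟨x', hx', he⟩ hy
      rw [← he] at hy
      exact hx' (hc.le hy)
    rw [hM]
    refine IsLocalization.of_surjective 𝔪.primeCompl L ψ hψ (Ideal.Quotient.mk I')
      Ideal.Quotient.mk_surjective ?_ (by rw [Ideal.mk_ker, hker])
    exact (RingHom.liftOfSurjective_comp ψ hψ g₀).symm
  refine isGeomUnibranch_of_henselian (residue_bijective_quotient p hA) (residue_bijective_quotient q hB)
    𝔪₀ ?_ ?_ (L ⧸ I')
  · intro a ha
    obtain ⟨a, rfl⟩ := Ideal.Quotient.mk_surjective a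
    exact Ideal.mem_map_of_mem ψ (h𝔪A a fun hu => ha (hu.map _))
  · intro b hb
    obtain ⟨b, rfl⟩ := Ideal.Quotient.mk_surjective b
    exact Ideal.mem_map_of_mem ψ (h𝔪B b fun hu => hb (hu.map _))

omit [IsAlgClosed k] [HenselianLocalRing A] [HenselianLocalRing B] in
/-- A minimal prime goes to a minimal prime along a flat map. -/
theorem comap_mem_minimalPrimes {R S : Type u} [CommRing R] [CommRing S] (f : R →+* S) (hf : f.Flat)
    {P : Ideal S} (hP : P ∈ minimalPrimes S) : P.comap f ∈ minimalPrimes R := by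
  letI := f.toAlgebra
  haveI : Module.Flat R S := hf
  haveI := hP.1.1
  refine ⟨⟨inferInstance, bot_le⟩, fun p hp hle => ?_⟩
  haveI := hp.1
  haveI : P.LiesOver (P.comap f) := ⟨rfl⟩
  obtain ⟨P', hP'le, hP', hlo⟩ := Ideal.exists_ideal_le_liesOver_of_le (q := P.comap f) P hle
  have hPP : P = P' := le_antisymm (hP.2 ⟨hP', bot_le⟩ hP'le) hP'le
  exact le_of_eq ((congrArg (Ideal.comap f) hPP).trans hlo.over.symm)

omit [IsAlgClosed k] [HenselianLocalRing A] [HenselianLocalRing B] in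
theorem flat_includeLeft : (Algebra.TensorProduct.includeLeft : A →ₐ[k] A ⊗[k] B).toRingHom.Flat :=
  RingHom.flat_algebraMap_iff.2 (inferInstanceAs (Module.Flat A (A ⊗[k] B)))

omit [IsAlgClosed k] [HenselianLocalRing A] [HenselianLocalRing B] in
theorem flat_includeRight : (Algebra.TensorProduct.includeRight : B →ₐ[k] A ⊗[k] B).toRingHom.Flat := by
  have h : (Algebra.TensorProduct.includeRight : B →ₐ[k] A ⊗[k] B).toRingHom =
      (Algebra.TensorProduct.comm k B A).toRingEquiv.toRingHom.comp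
        (Algebra.TensorProduct.includeLeft : B →ₐ[k] B ⊗[k] A).toRingHom := by
    ext b
    simp
  rw [h]
  exact flat_includeLeft.comp (RingHom.Flat.of_bijective (Algebra.TensorProduct.comm k B A).toRingEquiv.bijective)

theorem minimalPrimes_bijOn [CommRing C] [IsLocalRing C]
    (hA : Function.Bijective ((residue A).comp (algebraMap k A)))
    (hB : Function.Bijective ((residue B).comp (algebraMap k B)))
    (h𝔪A : ∀ a ∈ maximalIdeal A, a ⊗ₜ[k] (1 : B) ∈ 𝔪) (h𝔪B : ∀ b ∈ maximalIdeal B, (1 : A) ⊗ₜ[k] b ∈ 𝔪)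
    (L : Type u) [CommRing L] [IsLocalRing L] [Algebra (A ⊗[k] B) L] [IsLocalization.AtPrime L 𝔪]
    [Algebra L C] [IsLocalHom (algebraMap L C)] [Hensel.IsStrictHenselization L C] :
    Set.BijOn
      (fun 𝔯 : Ideal C =>
        (𝔯.comap ((algebraMap L C).comp ((algebraMap (A ⊗[k] B) L).comp
              (Algebra.TensorProduct.includeLeft : A →ₐ[k] A ⊗[k] B).toRingHom)),
          𝔯.comap ((algebraMap L C).comp ((algebraMap (A ⊗[k] B) L).comp
              (Algebra.TensorProduct.includeRight : B →ₐ[k] A ⊗[k] B).toRingHom))))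
      (minimalPrimes C) (minimalPrimes A ×ˢ minimalPrimes B) := by
  obtain ⟨K, _, _, _, _, _, π, hπ⟩ := H9Hens.exists_isPtColim_of_isStrictHenselization (R := L) C
  haveI := hπ.faithfullyFlat (H9Hens.ker_algebraMap_of_tower (R := L) (k := K))
  let f := (algebraMap L C).comp (algebraMap (A ⊗[k] B) L)
  have hf : f.Flat := RingHom.Flat.comp
    (RingHom.flat_algebraMap_iff.2 (IsLocalization.flat L 𝔪.primeCompl))
    (RingHom.flat_algebraMap_iff.2 (inferInstanceAs (Module.Flat L C)))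
  have hcl : ∀ P : Ideal C, P.comap ((algebraMap L C).comp ((algebraMap (A ⊗[k] B) L).comp
      (Algebra.TensorProduct.includeLeft : A →ₐ[k] A ⊗[k] B).toRingHom)) =
      (P.comap f).comap (Algebra.TensorProduct.includeLeft : A →ₐ[k] A ⊗[k] B).toRingHom := fun _ => rfl
  have hcr : ∀ P : Ideal C, P.comap ((algebraMap L C).comp ((algebraMap (A ⊗[k] B) L).comp
      (Algebra.TensorProduct.includeRight : B →ₐ[k] A ⊗[k] B).toRingHom)) =
      (P.comap f).comap (Algebra.TensorProduct.includeRight : B →ₐ[k] A ⊗[k] B).toRingHom := fun _ => rfl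
  have hle : ∀ (P : Ideal C) (p : Ideal A) (q : Ideal B),
      p ≤ (P.comap f).comap (Algebra.TensorProduct.includeLeft : A →ₐ[k] A ⊗[k] B).toRingHom →
      q ≤ (P.comap f).comap (Algebra.TensorProduct.includeRight : B →ₐ[k] A ⊗[k] B).toRingHom →
      pairIdeal p q ≤ P.comap f := fun P p q h₁ h₂ =>
    sup_le (Ideal.map_le_iff_le_comap.2 h₁) (Ideal.map_le_iff_le_comap.2 h₂)
  have huniq : ∀ (p : Ideal A) (q : Ideal B) [p.IsPrime] [q.IsPrime],
      ∃ P₀, P₀ ∈ ((pairIdeal (k := k) p q).map f).minimalPrimes ∧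
        ∀ P ∈ ((pairIdeal (k := k) p q).map f).minimalPrimes, P = P₀ := by
    intro p q _ _
    obtain ⟨Q, hQ, hu⟩ := hasUniqueMinimalPrime_quotient (C := C) (p := p) (q := q) hA hB h𝔪A h𝔪B L
    rw [show (pairIdeal (k := k) p q).map f =
      ((pairIdeal (k := k) p q).map (algebraMap (A ⊗[k] B) L)).map (algebraMap L C) from
        (Ideal.map_map _ _).symm, Ideal.minimalPrimes_eq_comap]
    refine ⟨_, ⟨Q, hQ, rfl⟩, ?_⟩
    rintro _ ⟨Q', hQ', rfl⟩
    rw [hu Q' hQ']
  refine ⟨fun P hP => ?_, fun P hP P' hP' he => ?_, ?_⟩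
  · refine Set.mk_mem_prod ?_ ?_
    · show _ ∈ minimalPrimes A
      rw [hcl]
      exact comap_mem_minimalPrimes _ flat_includeLeft (comap_mem_minimalPrimes f hf hP)
    · show _ ∈ minimalPrimes B
      rw [hcr]
      exact comap_mem_minimalPrimes _ flat_includeRight (comap_mem_minimalPrimes f hf hP)
  · simp only [Prod.mk.injEq, hcl, hcr] at he
    haveI := hP.1.1
    obtain ⟨P₀, -, hu⟩ := huniq
      ((P.comap f).comap (Algebra.TensorProduct.includeLeft : A →ₐ[k] A ⊗[k] B).toRingHom)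
      ((P.comap f).comap (Algebra.TensorProduct.includeRight : B →ₐ[k] A ⊗[k] B).toRingHom)
    have key : ∀ Q ∈ minimalPrimes C,
        (Q.comap f).comap (Algebra.TensorProduct.includeLeft : A →ₐ[k] A ⊗[k] B).toRingHom =
          (P.comap f).comap (Algebra.TensorProduct.includeLeft : A →ₐ[k] A ⊗[k] B).toRingHom →
        (Q.comap f).comap (Algebra.TensorProduct.includeRight : B →ₐ[k] A ⊗[k] B).toRingHom =
          (P.comap f).comap (Algebra.TensorProduct.includeRight : B →ₐ[k] A ⊗[k] B).toRingHom →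
        Q = P₀ := fun Q hQ h₁ h₂ => hu Q
      ⟨⟨hQ.1.1, Ideal.map_le_iff_le_comap.2 (hle Q _ _ h₁.ge h₂.ge)⟩,
        fun R hR hRle => hQ.2 ⟨hR.1, bot_le⟩ hRle⟩
    exact (key P hP rfl rfl).trans (key P' hP' he.1.symm he.2.symm).symm
  · rintro ⟨p, q⟩ ⟨hp : p ∈ minimalPrimes A, hq : q ∈ minimalPrimes B⟩
    haveI := hp.1.1
    haveI := hq.1.1
    haveI hI := isPrime_pairIdeal (k := k) (p := p) (q := q)
    obtain ⟨P₀, hP₀, -⟩ := huniq p q
    haveI := hP₀.1.1
    have hI₀ : pairIdeal (k := k) p q ≤ P₀.comap f := Ideal.map_le_iff_le_comap.1 hP₀.1.2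
    have hover : P₀.comap f = pairIdeal (k := k) p q := by
      letI := f.toAlgebra
      haveI : Module.Flat (A ⊗[k] B) C := hf
      haveI : P₀.LiesOver (P₀.comap f) := ⟨rfl⟩
      obtain ⟨P', hP'le, hP', hlo⟩ := Ideal.exists_ideal_le_liesOver_of_le (q := P₀.comap f) P₀ hI₀
      have hPP : P₀ = P' := le_antisymm
        (hP₀.2 ⟨hP', Ideal.map_le_iff_le_comap.2 (le_of_eq hlo.over)⟩ hP'le) hP'le
      rw [hPP]
      exact hlo.over.symm
    have hmin : ∀ J : Ideal (A ⊗[k] B), J.IsPrime → J ≤ pairIdeal p q → pairIdeal p q ≤ J := by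
      intro J hJ hJle
      refine sup_le (Ideal.map_le_iff_le_comap.2 ?_) (Ideal.map_le_iff_le_comap.2 ?_)
      · exact hp.2 ⟨Ideal.comap_isPrime (Algebra.TensorProduct.includeLeft : A →ₐ[k] A ⊗[k] B).toRingHom J,
          bot_le⟩ ((Ideal.comap_mono hJle).trans comap_pairIdeal_left.le)
      · exact hq.2 ⟨Ideal.comap_isPrime (Algebra.TensorProduct.includeRight : B →ₐ[k] A ⊗[k] B).toRingHom J,
          bot_le⟩ ((Ideal.comap_mono hJle).trans comap_pairIdeal_right.le)
    refine ⟨P₀, ⟨⟨inferInstance, bot_le⟩, fun Q hQ hQle => ?_⟩, ?_⟩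
    · haveI := hQ.1
      exact hP₀.2 ⟨hQ.1, Ideal.map_le_iff_le_comap.2
        (hmin _ (Ideal.comap_isPrime f Q) ((Ideal.comap_mono hQle).trans hover.le))⟩ hQle
    · simp only [hcl, hcr, hover, comap_pairIdeal_left, comap_pairIdeal_right]

end Groth.Agent.H8Props.TensorBranch
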