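import Groth.Prelude.Def_CAlg2
import Groth.Agent.H19Grp.AlgClosedGeom
import Groth.Agent.S2691
import Groth.Agent.H24Cot.Regular
import Mathlib.RingTheory.LocalProperties.IntegrallyClosed
import Mathlib.RingTheory.Localization.Integral
import Mathlib.RingTheory.TensorProduct.Maps

/-!
# Tensor products of unibranch local algebras over an algebraically closed field
-/

set_option autoImplicit false
set_option linter.unusedSectionVars false
set_option linter.style.haveILetI false
universe u

open TensorProduct IsLocalRing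

namespace Groth.Agent.H8Props.TensorBranch

variable {k A A' B B' : Type u} [Field k] [IsAlgClosed k]
  [CommRing A] [CommRing A'] [CommRing B] [CommRing B']
  [Algebra k A] [Algebra k A'] [Algebra k B] [Algebra k B']
  (iA : A →ₐ[k] A') (iB : B →ₐ[k] B')

/-- A local algebra with residue field the ground field has a character. -/
theorem exists_char (A : Type u) [CommRing A] [Algebra k A] [IsLocalRing A]
    (hA : Function.Bijective ((residue A).comp (algebraMap k A))) :
    ∃ χ : A →ₐ[k] k, RingHom.ker χ = maximalIdeal A := by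
  let e := RingEquiv.ofBijective _ hA
  refine ⟨{ (e.symm.toRingHom.comp (residue A)) with
    commutes' := fun c => e.symm_apply_apply c }, ?_⟩
  ext x
  show e.symm (residue A x) = 0 ↔ _
  rw [map_eq_zero_iff _ e.symm.injective, residue_eq_zero_iff]

theorem residue_bijective_of_integral [IsLocalRing A] [IsLocalRing A'] (hi : iA.toRingHom.IsIntegral)
    (hA : Function.Bijective ((residue A).comp (algebraMap k A))) :
    Function.Bijective ((residue A').comp (algebraMap k A')) := by
  refine ⟨RingHom.injective _, fun y => ?_⟩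
  obtain ⟨χ, hχ⟩ := exists_char A hA
  haveI : IsLocalHom iA.toRingHom := by
    refine ⟨fun a ha => ?_⟩
    by_contra hna
    letI : Algebra A A' := iA.toRingHom.toAlgebra
    haveI : Algebra.IsIntegral A A' := ⟨hi⟩
    have h := Ideal.isMaximal_comap_of_isIntegral_of_isMaximal (R := A) (maximalIdeal A')
    have h' : a ∈ (maximalIdeal A').comap (algebraMap A A') := by
      rw [eq_maximalIdeal h]
      exact hna
    exact h' ha
  have hk : ((residue A').comp (algebraMap k A')).IsIntegral := by
    have h1 : ((residue A').comp iA.toRingHom).IsIntegral :=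
      hi.trans _ _ (RingHom.isIntegral_of_surjective _ residue_surjective)
    intro z
    obtain ⟨q, hq, hq'⟩ := h1 z
    refine ⟨q.map χ.toRingHom, hq.map _, ?_⟩
    rw [Polynomial.eval₂_map]
    have hc : ((residue A').comp (algebraMap k A')).comp χ.toRingHom =
        (residue A').comp iA.toRingHom := by
      ext a
      show residue A' (algebraMap k A' (χ a)) = residue A' (iA a)
      have ha : a - algebraMap k A (χ a) ∈ maximalIdeal A := by
        rw [← hχ, RingHom.mem_ker, map_sub, AlgHom.commutes]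
        exact sub_self _
      rw [eq_comm, ← sub_eq_zero, ← map_sub, residue_eq_zero_iff, ← iA.commutes, ← map_sub]
      exact map_nonunit iA.toRingHom _ ha
    rw [hc]
    exact hq'
  letI : Algebra k (ResidueField A') := ((residue A').comp (algebraMap k A')).toAlgebra
  haveI : Algebra.IsIntegral k (ResidueField A') := ⟨hk⟩
  exact IsAlgClosed.algebraMap_bijective_of_isIntegral.2 y

theorem map_isIntegral (hA : iA.toRingHom.IsIntegral) (hB : iB.toRingHom.IsIntegral) :
    (Algebra.TensorProduct.map iA iB).toRingHom.IsIntegral := by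
  intro z
  let φ := (Algebra.TensorProduct.map iA iB).toRingHom
  induction z using TensorProduct.induction_on with
  | zero => exact φ.isIntegralElem_zero
  | add x y hx hy => exact hx.add φ hy
  | tmul x y =>
    rw [show x ⊗ₜ[k] y = (x ⊗ₜ[k] (1 : B')) * ((1 : A') ⊗ₜ[k] y) from by simp]
    refine RingHom.IsIntegralElem.mul φ ?_ ?_
    · obtain ⟨q, hq, hq'⟩ := hA x
      refine ⟨q.map (Algebra.TensorProduct.includeLeftRingHom : A →+* A ⊗[k] B), hq.map _, ?_⟩
      rw [Polynomial.eval₂_map]
      have hc : φ.comp (Algebra.TensorProduct.includeLeftRingHom : A →+* A ⊗[k] B) =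
          (Algebra.TensorProduct.includeLeftRingHom : A' →+* A' ⊗[k] B').comp iA.toRingHom := by
        ext a
        simp [φ, Algebra.TensorProduct.includeLeftRingHom]
      rw [hc]
      have h := congrArg (Algebra.TensorProduct.includeLeftRingHom : A' →+* A' ⊗[k] B') hq'
      rw [Polynomial.hom_eval₂, map_zero] at h
      exact h
    · obtain ⟨q, hq, hq'⟩ := hB y
      refine ⟨q.map (Algebra.TensorProduct.includeRight : B →ₐ[k] A ⊗[k] B).toRingHom, hq.map _, ?_⟩
      rw [Polynomial.eval₂_map]
      have hc : φ.comp (Algebra.TensorProduct.includeRight : B →ₐ[k] A ⊗[k] B).toRingHom =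
          (Algebra.TensorProduct.includeRight : B' →ₐ[k] A' ⊗[k] B').toRingHom.comp iB.toRingHom := by
        ext a
        simp [φ]
      rw [hc]
      have h := congrArg (Algebra.TensorProduct.includeRight : B' →ₐ[k] A' ⊗[k] B').toRingHom hq'
      rw [Polynomial.hom_eval₂, map_zero] at h
      exact h

variable [IsDomain A] [IsDomain A'] [IsDomain B] [IsDomain B']

theorem map_injective (hA : Function.Injective iA) (hB : Function.Injective iB) :
    Function.Injective (Algebra.TensorProduct.map iA iB) := by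
  intro x y h
  have h1 : Function.Injective (TensorProduct.map iA.toLinearMap iB.toLinearMap) := by
    rw [← LinearMap.lTensor_comp_rTensor]
    exact (Module.Flat.lTensor_preserves_injective_linearMap _ hB).comp
      (Module.Flat.rTensor_preserves_injective_linearMap _ hA)
  exact h1 h

theorem exists_mul_mem_range (hA : ∀ x : A', ∃ a : A, a ≠ 0 ∧ iA a * x ∈ Set.range iA)
    (hB : ∀ x : B', ∃ b : B, b ≠ 0 ∧ iB b * x ∈ Set.range iB) (e : A' ⊗[k] B') :
    ∃ s : A ⊗[k] B, s ≠ 0 ∧
      Algebra.TensorProduct.map iA iB s * e ∈ Set.range (Algebra.TensorProduct.map iA iB) := by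
  haveI := H19Grp.isDomain_tensorProduct (k := k) A B
  induction e using TensorProduct.induction_on with
  | zero => exact ⟨1, one_ne_zero, 0, by simp⟩
  | add x y hx hy =>
    obtain ⟨s, hs, u, hu⟩ := hx
    obtain ⟨t, ht, v, hv⟩ := hy
    exact ⟨s * t, mul_ne_zero hs ht, t * u + s * v, by rw [map_add, map_mul, map_mul, map_mul, hu, hv]; ring⟩
  | tmul x y =>
    obtain ⟨a, ha, a', ha'⟩ := hA x
    obtain ⟨b, hb, b', hb'⟩ := hB y
    refine ⟨a ⊗ₜ[k] b, ?_, a' ⊗ₜ[k] b', by simp [ha', hb']⟩
    rw [show a ⊗ₜ[k] b = (a ⊗ₜ[k] (1 : B)) * ((1 : A) ⊗ₜ[k] b) from by simp]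
    exact mul_ne_zero
      (fun h0 => ha (Algebra.TensorProduct.includeLeft_injective (S := k)
        (FaithfulSMul.algebraMap_injective k B) (h0.trans (map_zero _).symm)))
      (fun h0 => hb (Algebra.TensorProduct.includeRight_injective
        (FaithfulSMul.algebraMap_injective k A) (h0.trans (map_zero _).symm)))

theorem isIntegrallyClosed_tensor (A' B' : Type u) [CommRing A'] [CommRing B'] [IsDomain A'] [IsDomain B']
    [Algebra k A'] [Algebra k B'] [IsIntegrallyClosed A'] [IsIntegrallyClosed B']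
    [IsDomain (A' ⊗[k] B')] : IsIntegrallyClosed (A' ⊗[k] B') := by
  haveI := H24Cot.isGeometricallyReduced_of_isAlgClosed k (FractionRing A')
  haveI := H24Cot.isGeometricallyReduced_of_isAlgClosed k (FractionRing B')
  have h := Groth.Agent.S2691.result k A' B'
  refine IsIntegrallyClosed.of_localization_maximal fun p hp hmax => ?_
  haveI := hmax.isPrime
  exact (h p).2

/-- Primes over the rational point of a tensor product of local algebras. -/
theorem exists_prime_unique [IsLocalRing A'] [IsLocalRing B'] [IsLocalRing A] [IsLocalRing B]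
    (hA : iA.toRingHom.IsIntegral) (hB : iB.toRingHom.IsIntegral)
    (hA' : Function.Bijective ((residue A').comp (algebraMap k A')))
    (hB' : Function.Bijective ((residue B').comp (algebraMap k B')))
    (𝔪 : Ideal (A ⊗[k] B))
    (h𝔪A : ∀ a ∈ maximalIdeal A, a ⊗ₜ[k] (1 : B) ∈ 𝔪) (h𝔪B : ∀ b ∈ maximalIdeal B, (1 : A) ⊗ₜ[k] b ∈ 𝔪) :
    ∃ χ : A' ⊗[k] B' →ₐ[k] k, ∀ P : Ideal (A' ⊗[k] B'), P.IsPrime →
      P.comap (Algebra.TensorProduct.map iA iB).toRingHom = 𝔪 → P = RingHom.ker χ := by
  obtain ⟨χA, hχA⟩ := exists_char A' hA'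
  obtain ⟨χB, hχB⟩ := exists_char B' hB'
  let χ : A' ⊗[k] B' →ₐ[k] k := Algebra.TensorProduct.productMap χA χB
  refine ⟨χ, fun P hP hPm => ?_⟩
  have hmA : ∀ x ∈ maximalIdeal A', x ⊗ₜ[k] (1 : B') ∈ P := by
    let Q := P.comap (Algebra.TensorProduct.includeLeftRingHom : A' →+* A' ⊗[k] B')
    letI : Algebra A A' := iA.toRingHom.toAlgebra
    haveI : Algebra.IsIntegral A A' := ⟨hA⟩
    haveI : Q.IsPrime := Ideal.comap_isPrime _ P
    have hQ : (maximalIdeal A) ≤ Q.comap (algebraMap A A') := fun a ha => by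
      have : a ⊗ₜ[k] (1 : B) ∈ P.comap (Algebra.TensorProduct.map iA iB).toRingHom := hPm.symm ▸ h𝔪A a ha
      simpa [Q, Algebra.TensorProduct.includeLeftRingHom, RingHom.algebraMap_toAlgebra] using this
    have hmax : (Q.comap (algebraMap A A')).IsMaximal :=
      ((maximalIdeal.isMaximal A).eq_of_le (Ideal.comap_isPrime _ Q).ne_top hQ) ▸
        maximalIdeal.isMaximal A
    have hQmax : Q.IsMaximal := Ideal.isMaximal_of_isIntegral_of_isMaximal_comap Q hmax
    intro x hx
    rw [← eq_maximalIdeal hQmax] at hx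
    exact hx
  have hmB : ∀ y ∈ maximalIdeal B', (1 : A') ⊗ₜ[k] y ∈ P := by
    let Q := P.comap (Algebra.TensorProduct.includeRight : B' →ₐ[k] A' ⊗[k] B').toRingHom
    letI : Algebra B B' := iB.toRingHom.toAlgebra
    haveI : Algebra.IsIntegral B B' := ⟨hB⟩
    haveI : Q.IsPrime := Ideal.comap_isPrime _ P
    have hQ : (maximalIdeal B) ≤ Q.comap (algebraMap B B') := fun b hb => by
      have : (1 : A) ⊗ₜ[k] b ∈ P.comap (Algebra.TensorProduct.map iA iB).toRingHom := hPm.symm ▸ h𝔪B b hb
      simpa [Q, RingHom.algebraMap_toAlgebra] using this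
    have hmax : (Q.comap (algebraMap B B')).IsMaximal :=
      ((maximalIdeal.isMaximal B).eq_of_le (Ideal.comap_isPrime _ Q).ne_top hQ) ▸
        maximalIdeal.isMaximal B
    have hQmax : Q.IsMaximal := Ideal.isMaximal_of_isIntegral_of_isMaximal_comap Q hmax
    intro x hx
    rw [← eq_maximalIdeal hQmax] at hx
    exact hx
  have key : ∀ e : A' ⊗[k] B', e - algebraMap k _ (χ e) ∈ P := by
    intro e
    induction e using TensorProduct.induction_on with
    | zero => simp
    | add x y hx hy =>
      rw [map_add, map_add]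
      convert! P.add_mem hx hy using 1
      ring
    | tmul x y =>
      have hx : x - algebraMap k A' (χA x) ∈ maximalIdeal A' := by
        rw [← hχA, RingHom.mem_ker, map_sub, AlgHom.commutes]
        exact sub_self _
      have hy : y - algebraMap k B' (χB y) ∈ maximalIdeal B' := by
        rw [← hχB, RingHom.mem_ker, map_sub, AlgHom.commutes]
        exact sub_self _
      have h1 := P.mul_mem_right ((1 : A') ⊗ₜ[k] y) (hmA _ hx)
      have h2 := P.mul_mem_left (algebraMap k (A' ⊗[k] B') (χA x)) (hmB _ hy)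
      convert! P.add_mem h1 h2 using 1
      have e1 : ∀ c : k, ((1 : A') ⊗ₜ[k] algebraMap k B' c) = algebraMap k (A' ⊗[k] B') c :=
        fun c => ((Algebra.TensorProduct.includeRight : B' →ₐ[k] A' ⊗[k] B').commutes c)
      have e2 : ∀ c : k, (algebraMap k A' c ⊗ₜ[k] (1 : B')) = algebraMap k (A' ⊗[k] B') c :=
        fun c => rfl
      simp only [TensorProduct.sub_tmul, TensorProduct.tmul_sub, e1, e2, χ,
        Algebra.TensorProduct.productMap_apply_tmul, map_mul, sub_mul, mul_sub,
        Algebra.TensorProduct.tmul_mul_tmul, one_mul, mul_one]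
      ring
  refine le_antisymm (fun e he => ?_) (fun e he => ?_)
  · rw [RingHom.mem_ker]
    by_contra h0
    refine hP.ne_top (Ideal.eq_top_of_isUnit_mem _ ?_ ((IsUnit.mk0 _ h0).map (algebraMap k (A' ⊗[k] B'))))
    have := P.sub_mem he (key e)
    rwa [sub_sub_cancel] at this
  · have := key e
    rw [RingHom.mem_ker] at he
    rwa [he, map_zero, sub_zero] at this

/-- A fraction field of a birational extension is a fraction field. -/
theorem isFractionRing_of_tower (R S T : Type u) [CommRing R] [IsDomain R] [CommRing S] [IsDomain S] [Field T]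
    [Algebra R S] [Algebra S T] [Algebra R T] [IsScalarTower R S T] [IsFractionRing S T]
    (hinj : Function.Injective (algebraMap R S))
    (h : ∀ e : S, ∃ s : R, s ≠ 0 ∧ algebraMap R S s * e ∈ Set.range (algebraMap R S)) :
    IsFractionRing R T := by
  have hinjK : Function.Injective (algebraMap R T) := by
    rw [IsScalarTower.algebraMap_eq R S T]
    exact (IsFractionRing.injective S T).comp hinj
  haveI : FaithfulSMul R T := (faithfulSMul_iff_algebraMap_injective _ _).2 hinjK
  refine IsFractionRing.of_field R T fun z => ?_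
  obtain ⟨e, d, hd, rfl⟩ := IsFractionRing.div_surjective (A := S) z
  obtain ⟨s, hs, u, hu⟩ := h e
  obtain ⟨t, ht, v, hv⟩ := h d
  refine ⟨t * u, s * v, ?_⟩
  have hd0 : algebraMap S T d ≠ 0 := IsFractionRing.to_map_ne_zero_of_mem_nonZeroDivisors hd
  have hs0 : algebraMap R T s ≠ 0 := (map_ne_zero_iff _ hinjK).2 hs
  have ht0 : algebraMap R T t ≠ 0 := (map_ne_zero_iff _ hinjK).2 ht
  have hu' : algebraMap R T u = algebraMap R T s * algebraMap S T e := by
    rw [IsScalarTower.algebraMap_apply R S T, hu, map_mul, ← IsScalarTower.algebraMap_apply]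
  have hv' : algebraMap R T v = algebraMap R T t * algebraMap S T d := by
    rw [IsScalarTower.algebraMap_apply R S T, hv, map_mul, ← IsScalarTower.algebraMap_apply]
  rw [map_mul, map_mul, hu', hv']
  field_simp

open CAlg2 in
/-- The local ring at the rational point of a tensor product is geometrically unibranch. -/
theorem isGeomUnibranch_tensor [IsLocalRing A] [IsLocalRing B] [IsLocalRing A'] [IsLocalRing B']
    [IsIntegrallyClosed A'] [IsIntegrallyClosed B']
    (hiA : Function.Injective iA) (hiB : Function.Injective iB)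
    (hA : iA.toRingHom.IsIntegral) (hB : iB.toRingHom.IsIntegral)
    (hfA : ∀ x : A', ∃ a : A, a ≠ 0 ∧ iA a * x ∈ Set.range iA)
    (hfB : ∀ x : B', ∃ b : B, b ≠ 0 ∧ iB b * x ∈ Set.range iB)
    (hrA : Function.Bijective ((residue A).comp (algebraMap k A)))
    (hrB : Function.Bijective ((residue B).comp (algebraMap k B)))
    (𝔪 : Ideal (A ⊗[k] B)) [𝔪.IsPrime]
    (h𝔪A : ∀ a ∈ maximalIdeal A, a ⊗ₜ[k] (1 : B) ∈ 𝔪) (h𝔪B : ∀ b ∈ maximalIdeal B, (1 : A) ⊗ₜ[k] b ∈ 𝔪)
    (D : Type u) [CommRing D] [IsLocalRing D] [Algebra (A ⊗[k] B) D] [IsLocalization.AtPrime D 𝔪] :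
    IsGeomUnibranch D := by
  haveI := H19Grp.isDomain_tensorProduct (k := k) A B
  haveI := H19Grp.isDomain_tensorProduct (k := k) A' B'
  haveI := isIntegrallyClosed_tensor (k := k) A' B'
  haveI hD : IsDomain D :=
    IsLocalization.isDomain_of_le_nonZeroDivisors D 𝔪.primeCompl_le_nonZeroDivisors
  haveI : IsDomain (red D) := (Ideal.Quotient.isDomain_iff_prime _).2 (by
    rw [nilradical_eq_zero D]; exact Ideal.isPrime_bot)
  obtain ⟨χ, hχ⟩ := exists_prime_unique iA iB hA hB (residue_bijective_of_integral iA hA hrA)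
    (residue_bijective_of_integral iB hB hrB) 𝔪 h𝔪A h𝔪B
  have key : ∀ x : normRed D, ∃ s : A ⊗[k] B, s ∉ 𝔪 ∧ ∃ e : A' ⊗[k] B',
      ∀ (m' : Ideal (normRed D)), m'.IsMaximal →
        (x ∈ m' ↔ χ e = 0) ∧
        algebraMap (red D) (normRed D) (Ideal.Quotient.mk _ (algebraMap (A ⊗[k] B) D s)) * x -
          algebraMap (red D) (normRed D) (Ideal.Quotient.mk _ (algebraMap (A ⊗[k] B) D
            (algebraMap k (A ⊗[k] B) (χ e)))) ∈ m' := by
    intro x
    let L := FractionRing (red D)
    let rm : A ⊗[k] B →+* red D := (Ideal.Quotient.mk (nilradical D)).comp (algebraMap (A ⊗[k] B) D)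
    haveI : IsScalarTower (A ⊗[k] B) (red D) L := inferInstance
    haveI : IsLocalization 𝔪.primeCompl (red D) := by
      have hb : Function.Bijective (Ideal.Quotient.mk (nilradical D)) :=
        ⟨by rw [RingHom.injective_iff_ker_eq_bot, Ideal.mk_ker, nilradical_eq_zero]; rfl,
          Ideal.Quotient.mk_surjective⟩
      exact IsLocalization.isLocalization_of_algEquiv 𝔪.primeCompl
        ({ RingEquiv.ofBijective _ hb with commutes' := fun _ => rfl } : D ≃ₐ[A ⊗[k] B] red D)
    haveI : IsFractionRing (A ⊗[k] B) L := isFractionRing_of_tower _ (red D) _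
      (IsLocalization.injective (red D) 𝔪.primeCompl_le_nonZeroDivisors) fun z => by
        obtain ⟨⟨r, m⟩, hm⟩ := IsLocalization.surj 𝔪.primeCompl z
        exact ⟨m, fun h0 => m.2 (h0 ▸ zero_mem _), r, by rw [mul_comm, hm]⟩
    letI : Algebra (A ⊗[k] B) (A' ⊗[k] B') := (Algebra.TensorProduct.map iA iB).toRingHom.toAlgebra
    let L₀ := FractionRing (A' ⊗[k] B')
    haveI : FaithfulSMul (A ⊗[k] B) (A' ⊗[k] B') :=
      (faithfulSMul_iff_algebraMap_injective _ _).2 (map_injective iA iB hiA hiB)
    haveI : IsFractionRing (A ⊗[k] B) L₀ := isFractionRing_of_tower _ (A' ⊗[k] B') _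
      (map_injective iA iB hiA hiB) (exists_mul_mem_range iA iB hfA hfB)
    let σ : L₀ ≃ₐ[A ⊗[k] B] L := IsLocalization.algEquiv (nonZeroDivisors (A ⊗[k] B)) L₀ L
    let jE : A' ⊗[k] B' →+* L := σ.toRingEquiv.toRingHom.comp (algebraMap (A' ⊗[k] B') L₀)
    have hjE : ∀ s, jE (Algebra.TensorProduct.map iA iB s) = algebraMap (A ⊗[k] B) L s :=
      fun s => σ.commutes s
    have hint : ∀ e, jE e ∈ integralClosure (red D) L := by
      intro e
      have h1 : IsIntegral (A ⊗[k] B) e := map_isIntegral iA iB hA hB e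
      have h2 : IsIntegral (A ⊗[k] B) (jE e) :=
        h1.map ((σ.toAlgHom).comp (IsScalarTower.toAlgHom (A ⊗[k] B) (A' ⊗[k] B') L₀))
      exact h2.tower_top
    let jN : A' ⊗[k] B' →+* normRed D := jE.codRestrict (integralClosure (red D) L).toSubring hint
    have hjN : ∀ s, jN (Algebra.TensorProduct.map iA iB s) = algebraMap (red D) (normRed D) (rm s) :=
      fun s => Subtype.ext (hjE s)
    obtain ⟨⟨s, hs⟩, hsx⟩ := IsIntegral.exists_multiple_integral_of_isLocalization 𝔪.primeCompl
      (x : L) x.2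
    have hsx' : IsIntegral (A' ⊗[k] B') (σ.symm ((⟨s, hs⟩ : 𝔪.primeCompl) • (x : L))) :=
      (hsx.map σ.symm.toAlgHom).tower_top
    obtain ⟨e, he⟩ := (IsIntegrallyClosed.isIntegral_iff (R := A' ⊗[k] B') (K := L₀)).1 hsx'
    have he' : jE e = algebraMap (A ⊗[k] B) L s * (x : L) := by
      show σ (algebraMap (A' ⊗[k] B') L₀ e) = _
      rw [he, AlgEquiv.apply_symm_apply]
      exact Algebra.smul_def (R := A ⊗[k] B) s (x : L)
    have hN : jN e = algebraMap (red D) (normRed D) (rm s) * x := Subtype.ext he'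
    refine ⟨s, hs, e, fun m' hm' => ?_⟩
    haveI : m'.IsPrime := hm'.isPrime
    have hP : m'.comap jN = RingHom.ker χ := by
      refine hχ _ (Ideal.comap_isPrime _ _) ?_
      haveI : Algebra.IsIntegral (red D) (normRed D) := integralClosure.AlgebraIsIntegral
      have hmax : (m'.comap (algebraMap (red D) (normRed D))).IsMaximal :=
        Ideal.isMaximal_comap_of_isIntegral_of_isMaximal m'
      haveI : IsLocalization.AtPrime (red D) 𝔪 := ‹IsLocalization 𝔪.primeCompl (red D)›
      haveI : IsLocalRing (red D) := IsLocalization.AtPrime.isLocalRing (red D) 𝔪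
      rw [Ideal.comap_comap, show jN.comp (Algebra.TensorProduct.map iA iB).toRingHom =
        (algebraMap (red D) (normRed D)).comp (algebraMap (A ⊗[k] B) (red D)) from RingHom.ext hjN,
        ← Ideal.comap_comap, eq_maximalIdeal hmax]
      exact IsLocalization.AtPrime.comap_maximalIdeal (red D) 𝔪
    refine ⟨?_, ?_⟩
    · rw [← RingHom.mem_ker, ← hP, Ideal.mem_comap, hN]
      refine ⟨fun h => m'.mul_mem_left _ h, fun h => (hm'.isPrime.mem_or_mem h).resolve_left ?_⟩
      intro h3
      exact hm'.ne_top (Ideal.eq_top_of_isUnit_mem _ h3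
        (((IsLocalization.map_units D ⟨s, hs⟩).map (Ideal.Quotient.mk (nilradical D))).map _))
    · show algebraMap (red D) (normRed D) (rm s) * x -
        algebraMap (red D) (normRed D) (rm (algebraMap k (A ⊗[k] B) (χ e))) ∈ m'
      rw [← hN, ← hjN, ← map_sub, ← Ideal.mem_comap, hP, RingHom.mem_ker, map_sub, AlgHom.commutes,
        AlgHom.commutes]
      exact sub_self _
  have hloc : IsLocalRing (normRed D) := by
    obtain ⟨m, hm⟩ := Ideal.exists_maximal (normRed D)
    refine IsLocalRing.of_unique_max_ideal ⟨m, hm, fun m₂ hm₂ => ?_⟩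
    ext x
    obtain ⟨s, hs, e, h⟩ := key x
    rw [(h m₂ hm₂).1, (h m hm).1]
  refine ⟨⟨inferInstance, hloc⟩, fun m' hm' y => ⟨0, ?_⟩⟩
  rw [pow_zero, pow_one]
  obtain ⟨x, rfl⟩ := Ideal.Quotient.mk_surjective y
  obtain ⟨s, hs, e, h⟩ := key x
  have h2 := (h m' hm').2
  obtain ⟨t, ht⟩ := IsLocalization.map_units D (⟨s, hs⟩ : 𝔪.primeCompl)
  refine ⟨(↑t⁻¹ : D) * algebraMap (A ⊗[k] B) D (algebraMap k (A ⊗[k] B) (χ e)), ?_⟩
  simp only [RingHom.comp_apply]
  rw [eq_comm, Ideal.Quotient.eq]
  have h3 := m'.mul_mem_left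
    (algebraMap (red D) (normRed D) (Ideal.Quotient.mk _ (↑t⁻¹ : D))) h2
  rw [mul_sub, ← mul_assoc, ← map_mul, ← map_mul, ← map_mul, ← map_mul, ← ht, Units.inv_mul,
    map_one, map_one, one_mul] at h3
  exact h3

end Groth.Agent.H8Props.TensorBranch
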